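import Groth.Agent.SyntCMLib.Local
import Groth.Agent.CMFlatLib.FibreDepth
import Groth.Agent.CMFlatLib.Open
import Groth.Agent.S9142
import Groth.Agent.S9363
import Groth.Agent.AlgSpLib.SrcFppf
import Groth.Agent.EquidimLib.DimBetween
import Groth.Prelude.Def_RegImm
import Groth.Prelude.Def_CAlg

/-!
# Cohen–Macaulay and `(S_k)` along syntomic morphisms
-/

set_option autoImplicit false
set_option linter.style.haveILetI false
universe u

open CategoryTheory CategoryTheory.Limits AlgebraicGeometry IsLocalRing TensorProduct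

namespace SyntCMLib

variable {X S : Scheme.{u}} (f : X ⟶ S)

theorem flat_of_syntomic (h : Synt.IsSyntomicMor f) : Flat f := by
  rw [HasRingHomProperty.iff_appLE (P := @Flat)]
  intro V U e
  exact ((Groth.Agent.S9363.result f).1 h U V e).1

theorem lfp_of_syntomic (h : Synt.IsSyntomicMor f) : LocallyOfFinitePresentation f := by
  rw [HasRingHomProperty.iff_appLE (P := @LocallyOfFinitePresentation)]
  intro V U e
  exact ((Groth.Agent.S9363.result f).1 h U V e).2.1

/-- The closed fibre of the map of local rings of a syntomic morphism is Cohen–Macaulay. -/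
theorem isCM_fib [IsLocallyNoetherian X] (h : Synt.IsSyntomicMor f) (x : X) :
    letI := (f.stalkMap x).hom.toAlgebra
    CommAlgDim.IsCM (GorLib.Fib (S.presheaf.stalk (f x)) (X.presheaf.stalk x)) := by
  obtain ⟨⟨U, hU⟩, ⟨V, hV⟩, hUV, hxU, hs⟩ := h x
  have hxV : f x ∈ V := hUV hxU
  letI := (f.appLE V U hUV).hom.toAlgebra
  let q := (hU.primeIdealOf ⟨x, hxU⟩).asIdeal
  letI : Algebra Γ(X, U) (X.presheaf.stalk x) := TopCat.Presheaf.algebra_section_stalk X.presheaf ⟨x, hxU⟩
  haveI := hU.isLocalization_stalk ⟨x, hxU⟩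
  letI : Algebra Γ(S, V) (S.presheaf.stalk (f x)) := TopCat.Presheaf.algebra_section_stalk S.presheaf ⟨f x, hxV⟩
  haveI := hV.isLocalization_stalk ⟨f x, hxV⟩
  let ε := IsLocalization.algEquiv q.primeCompl (Localization.AtPrime q) (X.presheaf.stalk x)
  have hcomm : ∀ a, (f.stalkMap x).hom (algebraMap Γ(S, V) (S.presheaf.stalk (f x)) a) =
      algebraMap Γ(X, U) (X.presheaf.stalk x) (algebraMap Γ(S, V) Γ(X, U) a) := fun a =>
    (Scheme.Hom.germ_stalkMap_apply f V x hxV a).trans
      (TopCat.Presheaf.germ_res_apply X.presheaf (homOfLE hUV) x hxU _).symm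
  let p : Ideal Γ(S, V) := q.comap (algebraMap Γ(S, V) Γ(X, U))
  have hp : p = (hV.primeIdealOf ⟨f x, hxV⟩).asIdeal := by
    refine Ideal.ext fun a => ?_
    rw [Ideal.mem_comap, ← IsLocalization.AtPrime.to_map_mem_maximal_iff (X.presheaf.stalk x) q,
      ← IsLocalization.AtPrime.to_map_mem_maximal_iff (S.presheaf.stalk (f x)) (hV.primeIdealOf ⟨f x, hxV⟩).asIdeal,
      ← hcomm]
    exact ⟨fun ha => by
      by_contra hna
      exact (mem_maximalIdeal _).1 ha ((IsLocalRing.notMem_maximalIdeal.1 hna).map (f.stalkMap x).hom),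
      fun ha => map_nonunit (f.stalkMap x).hom _ ha⟩
  have hmap : (p.map (algebraMap Γ(S, V) (Localization.AtPrime q))).map ε.toRingEquiv.toRingHom =
      (maximalIdeal (S.presheaf.stalk (f x))).map (f.stalkMap x).hom := by
    rw [← IsLocalization.AtPrime.map_eq_maximalIdeal (hV.primeIdealOf ⟨f x, hxV⟩).asIdeal (S.presheaf.stalk (f x)),
      Ideal.map_map, Ideal.map_map, hp]
    congr 1
    refine RingHom.ext fun a => ?_
    show ε (algebraMap Γ(S, V) (Localization.AtPrime q) a) = _
    rw [IsScalarTower.algebraMap_apply Γ(S, V) Γ(X, U) (Localization.AtPrime q), ε.commutes]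
    exact (hcomm a).symm
  obtain ⟨Q, hQp, hQ⟩ := CMFlatLib.exists_fibre_point (R := Γ(S, V)) (hU.primeIdealOf ⟨x, hxU⟩)
  haveI := hQp
  obtain ⟨θ, -⟩ := CMFlatLib.exists_fibreLocal_equiv p Q q hQ
  haveI : Algebra.FiniteType p.ResidueField (p.Fiber Γ(X, U)) := (hs.2.2 ⟨p, inferInstance⟩).1
  haveI : IsNoetherianRing (p.Fiber Γ(X, U)) := Algebra.FiniteType.isNoetherianRing p.ResidueField _
  have hcm : LocCoh.IsCohenMacaulayLocalRing (Localization.AtPrime Q) :=
    (Groth.Agent.S9142.result p.ResidueField (p.Fiber Γ(X, U))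
      (hs.2.2 ⟨p, inferInstance⟩)).isCohenMacaulayLocalRing_localization Q
  letI := (f.stalkMap x).hom.toAlgebra
  let e : (Localization.AtPrime q ⧸ p.map (algebraMap Γ(S, V) (Localization.AtPrime q))) ≃+*
      GorLib.Fib (S.presheaf.stalk (f x)) (X.presheaf.stalk x) :=
    Ideal.quotientEquiv _ _ ε.toRingEquiv hmap.symm
  haveI := (θ.symm.trans e).isLocalRing
  haveI : IsNoetherianRing (Localization.AtPrime Q) := IsLocalization.isNoetherianRing Q.primeCompl _ inferInstance
  haveI := isNoetherianRing_of_ringEquiv _ (θ.symm.trans e)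
  exact CatLib.isCM_of_ringEquiv (θ.symm.trans e) ((CMFlatLib.isCohenMacaulayLocalRing_iff_isCM _).1 hcm)

theorem flat_stalk [Flat f] (x : X) :
    letI := (f.stalkMap x).hom.toAlgebra
    Module.Flat (S.presheaf.stalk (f x)) (X.presheaf.stalk x) :=
  Flat.stalkMap f x

/-- There is a point in each nonempty fibre whose fibre ring has dimension zero. -/
theorem exists_fib_dim_zero (x₀ : X) :
    ∃ x : X, f x = f x₀ ∧ (letI := (f.stalkMap x).hom.toAlgebra
      ringKrullDim (GorLib.Fib (S.presheaf.stalk (f x)) (X.presheaf.stalk x)) ≤ 0) := by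
  let F := f.fiber (f x₀)
  let Z := irreducibleComponent (f.asFiber x₀)
  have hZ : IsIrreducible Z := isIrreducible_irreducibleComponent
  let z := hZ.genericPoint
  refine ⟨f.fiberι _ z, ?_, ?_⟩
  · have : f.fiberι (f x₀) z ∈ Set.range (f.fiberι (f x₀)) := ⟨z, rfl⟩
    rw [Scheme.Hom.range_fiberι] at this
    exact this
  have hfz : f (f.fiberι (f x₀) z) = f x₀ := by
    have : f.fiberι (f x₀) z ∈ Set.range (f.fiberι (f x₀)) := ⟨z, rfl⟩
    rw [Scheme.Hom.range_fiberι] at this
    exact this
  have hdim : ∀ (s : S) (w : f.fiber s) (x : X), f.fiberι s w = x → ringKrullDim ((f.fiber s).presheaf.stalk w) ≤ 0 →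
      (letI := (f.stalkMap x).hom.toAlgebra
       ringKrullDim (GorLib.Fib (S.presheaf.stalk (f x)) (X.presheaf.stalk x)) ≤ 0) := by
    intro s w x e h
    subst e
    have hs : f (f.fiberι s w) = s := by
      have : f.fiberι s w ∈ Set.range (f.fiberι s) := ⟨w, rfl⟩
      rw [Scheme.Hom.range_fiberι] at this
      exact this
    obtain ⟨hsurj, hker⟩ := Groth.Agent.S9501.result f s w
    refine le_of_eq_of_le (ringKrullDim_eq_of_ringEquiv ?_) h
    exact ((RingHom.quotientKerEquivOfSurjective hsurj).symm.trans (Ideal.quotEquivOfEq hker)).symm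
  refine hdim _ z _ rfl ?_
  rw [EquidimLib.stalk_dim_eq]
  haveI : Subsingleton {v : F | v ⤳ z} := by
    refine ⟨fun a b => Subtype.ext ?_⟩
    have key : ∀ v : F, v ⤳ z → v = z := fun v hv => by
      have h1 : closure {z} = Z := by
        rw [hZ.genericPoint_closure_eq, isClosed_irreducibleComponent.closure_eq]
      have h2 : Z ⊆ closure {v} := h1 ▸ closure_minimal (Set.singleton_subset_iff.2 hv.mem_closure) isClosed_closure
      have h3 : closure {v} = Z := ((irreducibleComponent_mem_irreducibleComponents (f.asFiber x₀)).le_of_ge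
        isIrreducible_singleton.closure h2).antisymm h2
      exact ((show IsGenericPoint v Z from h3).eq h1)
    rw [key a.1 a.2, key b.1 b.2]
  haveI : Subsingleton (TopologicalSpace.IrreducibleCloseds {v : F | v ⤳ z}) := ⟨fun a b => by
    refine TopologicalSpace.IrreducibleCloseds.ext ?_
    rw [a.isIrreducible.nonempty.eq_univ, b.isIrreducible.nonempty.eq_univ]⟩
  exact Order.krullDim_nonpos_of_subsingleton

end SyntCMLib
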