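import Groth.Agent.SyntCMLib.Scheme

/-!
# Descent of Cohen–Macaulay and `(S_k)` along syntomic covers
-/

set_option autoImplicit false
set_option linter.style.haveILetI false
universe u

open CategoryTheory CategoryTheory.Limits AlgebraicGeometry IsLocalRing

namespace SyntCMLib

variable {ι : Type u} {S : Scheme.{u}} {X : ι → Scheme.{u}} (f : ∀ i, X i ⟶ S)

theorem isLocallyNoetherian_source (hsyn : ∀ i, Synt.IsSyntomicMor (f i)) [IsLocallyNoetherian S] (i : ι) :
    IsLocallyNoetherian (X i) := by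
  haveI := lfp_of_syntomic (f i) (hsyn i)
  exact LocallyOfFiniteType.isLocallyNoetherian (f i)

theorem isLocallyNoetherian_target (hsurj : ∀ s : S, ∃ i, s ∈ Set.range (f i).base)
    (hsyn : ∀ i, Synt.IsSyntomicMor (f i)) [∀ i, IsLocallyNoetherian (X i)] : IsLocallyNoetherian S := by
  haveI : Flat (Sigma.desc f) := IsZariskiLocalAtSource.sigmaDesc (P := @Flat) fun i => flat_of_syntomic (f i) (hsyn i)
  haveI : LocallyOfFinitePresentation (Sigma.desc f) :=
    IsZariskiLocalAtSource.sigmaDesc (P := @LocallyOfFinitePresentation) fun i => lfp_of_syntomic (f i) (hsyn i)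
  haveI : Surjective (Sigma.desc f) := ⟨fun s => by
    obtain ⟨i, x, hx⟩ := hsurj s
    exact ⟨(Sigma.ι X i).base x, by rw [← Scheme.Hom.comp_apply, Sigma.ι_desc]; exact hx⟩⟩
  haveI : IsLocallyNoetherian (∐ X) := (isLocallyNoetherian_iff_openCover (sigmaOpenCover X)).2 fun i => inferInstanceAs (IsLocallyNoetherian (X i))
  exact AlgSpLib.isLocallyNoetherian_of_fppf_surjective (Sigma.desc f)

section Local

variable {Y : Scheme.{u}} (g : Y ⟶ S) [IsLocallyNoetherian Y] [IsLocallyNoetherian S]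

theorem isCM_iff_stalk (hg : Synt.IsSyntomicMor g) (y : Y) :
    LocCoh.IsCohenMacaulayLocalRing (Y.presheaf.stalk y) ↔
      LocCoh.IsCohenMacaulayLocalRing (S.presheaf.stalk (g y)) := by
  haveI := flat_of_syntomic g hg
  letI := (g.stalkMap y).hom.toAlgebra
  haveI : IsLocalHom (algebraMap (S.presheaf.stalk (g y)) (Y.presheaf.stalk y)) :=
    inferInstanceAs (IsLocalHom (g.stalkMap y).hom)
  haveI := flat_stalk g y
  rw [CMFlatLib.isCohenMacaulayLocalRing_iff_isCM, CMFlatLib.isCohenMacaulayLocalRing_iff_isCM,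
    CMFlatLib.isCM_flat_iff (S.presheaf.stalk (g y)) (Y.presheaf.stalk y)]
  exact and_iff_left (isCM_fib g hg y)

theorem skPt_ascend_stalk (hg : Synt.IsSyntomicMor g) (k : ℕ) (y : Y) (h : SkPt k (S.presheaf.stalk (g y))) :
    SkPt k (Y.presheaf.stalk y) := by
  haveI := flat_of_syntomic g hg
  letI := (g.stalkMap y).hom.toAlgebra
  haveI : IsLocalHom (algebraMap (S.presheaf.stalk (g y)) (Y.presheaf.stalk y)) :=
    inferInstanceAs (IsLocalHom (g.stalkMap y).hom)
  haveI := flat_stalk g y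
  haveI : IsLocalRing (GorLib.Fib (S.presheaf.stalk (g y)) (Y.presheaf.stalk y)) :=
    GorLib.isLocalRing_quotient (GorLib.map_maximalIdeal_ne_top _ _)
  exact skPt_ascend k (isCM_fib g hg y) h

theorem skPt_descend_stalk (hg : Synt.IsSyntomicMor g) (k : ℕ) (y₀ : Y) (h : ∀ y : Y, SkPt k (Y.presheaf.stalk y)) :
    SkPt k (S.presheaf.stalk (g y₀)) := by
  haveI := flat_of_syntomic g hg
  obtain ⟨y, hy, hd⟩ := exists_fib_dim_zero g y₀
  rw [← hy]
  letI := (g.stalkMap y).hom.toAlgebra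
  haveI : IsLocalHom (algebraMap (S.presheaf.stalk (g y)) (Y.presheaf.stalk y)) :=
    inferInstanceAs (IsLocalHom (g.stalkMap y).hom)
  haveI := flat_stalk g y
  exact skPt_descend k hd (h y)

end Local

theorem cm_iff (hsurj : ∀ s : S, ∃ i, s ∈ Set.range (f i).base) (hsyn : ∀ i, Synt.IsSyntomicMor (f i)) :
    (IsLocallyNoetherian S ∧ ∀ s : S, LocCoh.IsCohenMacaulayLocalRing (S.presheaf.stalk s)) ↔
      ∀ i, IsLocallyNoetherian (X i) ∧ ∀ x : X i, LocCoh.IsCohenMacaulayLocalRing ((X i).presheaf.stalk x) := by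
  constructor
  · rintro ⟨hS, h⟩ i
    haveI := isLocallyNoetherian_source f hsyn i
    exact ⟨inferInstance, fun x => (isCM_iff_stalk (f i) (hsyn i) x).2 (h _)⟩
  · intro h
    haveI := fun i => (h i).1
    haveI := isLocallyNoetherian_target f hsurj hsyn
    refine ⟨inferInstance, fun s => ?_⟩
    obtain ⟨i, x, rfl⟩ := hsurj s
    exact (isCM_iff_stalk (f i) (hsyn i) x).1 ((h i).2 x)

theorem hasSk_iff (hsurj : ∀ s : S, ∃ i, s ∈ Set.range (f i).base) (hsyn : ∀ i, Synt.IsSyntomicMor (f i)) (k : ℕ) :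
    (IsLocallyNoetherian S ∧ ∀ s : S, LocCoh.HasSk k (S.presheaf.stalk s) (S.presheaf.stalk s)) ↔
      ∀ i, IsLocallyNoetherian (X i) ∧
        ∀ x : X i, LocCoh.HasSk k ((X i).presheaf.stalk x) ((X i).presheaf.stalk x) := by
  constructor
  · rintro ⟨hS, h⟩ i
    haveI := isLocallyNoetherian_source f hsyn i
    refine ⟨inferInstance, fun x => (DepthLib.hasSk_stalk_iff x k).2 fun w _ => ?_⟩
    exact skPt_ascend_stalk (f i) (hsyn i) k w ((DepthLib.hasSk_stalk_iff _ k).1 (h _) _ specializes_rfl)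
  · intro h
    haveI := fun i => (h i).1
    haveI := isLocallyNoetherian_target f hsurj hsyn
    refine ⟨inferInstance, fun s => (DepthLib.hasSk_stalk_iff s k).2 fun w _ => ?_⟩
    obtain ⟨i, x, rfl⟩ := hsurj w
    exact skPt_descend_stalk (f i) (hsyn i) k x fun y =>
      (DepthLib.hasSk_stalk_iff y k).1 ((h i).2 y) y specializes_rfl

end SyntCMLib
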