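import Groth.Agent.CMFlatLib.Basic
import Groth.Agent.CMFlatLib.RegFlat
import Groth.Agent.DepthLib.SkStalk
import Groth.Agent.DepthLib.FlatDepth
import Groth.Agent.DepthBasicLib.Ext

/-!
# Depth along flat local homomorphisms with Cohen–Macaulay closed fibre
-/

set_option autoImplicit false
universe u

open IsLocalRing RingTheory.Sequence CommAlgDim GorLib

namespace SyntCMLib

theorem maximalIdeal_mem_associatedPrimes_of_dim_zero (F : Type u) [CommRing F] [IsLocalRing F]
    [IsNoetherianRing F] (h : ringKrullDim F ≤ 0) : maximalIdeal F ∈ associatedPrimes F F := by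
  haveI : Ring.KrullDimLE 0 F := Ring.krullDimLE_iff.2 h
  obtain ⟨P, hP⟩ := associatedPrimes.nonempty F F
  haveI := hP.isPrime
  exact (IsLocalRing.eq_maximalIdeal (Ideal.isMaximal_of_isPrime P)) ▸ hP

theorem hasSeqIn_quot {B : Type u} [CommRing B] [IsLocalRing B] [IsNoetherianRing B] {x : B}
    (hx : IsSMulRegular B x) (hxm : x ∈ maximalIdeal B) [IsLocalRing (B ⧸ Ideal.span {x})] {n : ℕ}
    (h : HasSeqIn (maximalIdeal B) B (n + 1)) :
    HasSeqIn (maximalIdeal (B ⧸ Ideal.span {x})) (B ⧸ Ideal.span {x}) n := by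
  have h1 := DepthBasic.idealDepth_quot_add_one (maximalIdeal B) B x hxm hx
  have h2 := (le_idealDepth_iff (M := B) (maximalIdeal B) (n + 1)).2 h
  rw [← h1, Nat.cast_succ, ENat.add_le_add_iff_right (by simp : (1 : ℕ∞) ≠ ⊤)] at h2
  let e : QuotSMulTop x B ≃ₗ[B] B ⧸ Ideal.span {x} :=
    Submodule.quotEquivOfEq _ _ (by simp [← Submodule.ideal_span_singleton_smul])
  obtain ⟨rs, hl, hm, hr⟩ := ((le_idealDepth_iff (M := QuotSMulTop x B) (maximalIdeal B) n).1 h2).congr e
  refine ⟨rs.map (Ideal.Quotient.mk (Ideal.span {x})), by simpa using hl, fun r hr' => ?_, ?_⟩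
  · obtain ⟨a, ha, rfl⟩ := List.mem_map.1 hr'
    rw [maximalIdeal_quotient]
    exact Ideal.mem_map_of_mem _ (hm a ha)
  · exact (isWeaklyRegular_map_algebraMap_iff (B ⧸ Ideal.span {x}) (B ⧸ Ideal.span {x}) rs).2 hr

theorem hasSeqIn_of_flat : ∀ (n : ℕ) (A : Type u) [CommRing A] [IsLocalRing A] [IsNoetherianRing A]
    (B : Type u) [CommRing B] [IsLocalRing B] [IsNoetherianRing B]
    [Algebra A B] [IsLocalHom (algebraMap A B)] [Module.Flat A B], ringKrullDim (Fib A B) ≤ 0 →
    HasSeqIn (maximalIdeal B) B n → HasSeqIn (maximalIdeal A) A n := by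
  intro n
  induction n with
  | zero => intro A _ _ _ B _ _ _ _ _ _ _ _; exact hasSeqIn_zero _
  | succ n ih =>
    intro A _ _ _ B _ _ _ _ _ _ hF hB
    haveI : IsLocalRing (Fib A B) := isLocalRing_quotient (map_maximalIdeal_ne_top A B)
    by_cases hA : maximalIdeal A ∈ associatedPrimes A A
    · exfalso
      obtain ⟨-, s, hs⟩ := isAssociatedPrime_iff.1 (CMFlatLib.maximalIdeal_mem_associatedPrimes_of_flat hA
        (maximalIdeal_mem_associatedPrimes_of_dim_zero (Fib A B) hF))
      obtain ⟨rs, hl, hm, hr⟩ := hB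
      cases rs with
      | nil => simp at hl
      | cons x rs =>
        have hx : IsSMulRegular B x := (isWeaklyRegular_cons_iff B x rs).1 hr |>.1
        have h0 : x * s = 0 := by
          have := hs.le (hm x List.mem_cons_self)
          rwa [Submodule.mem_colon_singleton, Submodule.mem_bot, smul_eq_mul] at this
        have hs0 : s = 0 := hx (show x * s = x * 0 by rw [h0, mul_zero])
        subst hs0
        exact (maximalIdeal.isMaximal B).ne_top ((Ideal.eq_top_iff_one _).2 (hs.ge (by
          rw [Submodule.mem_colon_singleton, Submodule.mem_bot, smul_zero])))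
    · obtain ⟨f, hfm, hf⟩ := exists_isSMulRegular_mem (M := A) (I := maximalIdeal A) fun p hp hle =>
        hA ((le_antisymm (le_maximalIdeal hp.isPrime.ne_top) hle) ▸ hp)
      have hfB : algebraMap A B f ∈ maximalIdeal B := fun hu => hfm (IsUnit.of_map (algebraMap A B) f hu)
      have hfreg : IsSMulRegular B (algebraMap A B f) := hf.of_flat
      have hspan : (Ideal.span {f}).map (algebraMap A B) = Ideal.span {algebraMap A B f} := by
        rw [Ideal.map_span, Set.image_singleton]
      have hfne : Ideal.span {f} ≠ ⊤ :=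
        ne_top_of_le_ne_top (Ideal.IsMaximal.ne_top inferInstance) ((Ideal.span_singleton_le_iff_mem _).2 hfm)
      have hfne' : (Ideal.span {f}).map (algebraMap A B) ≠ ⊤ := by
        rw [hspan]
        exact ne_top_of_le_ne_top (Ideal.IsMaximal.ne_top inferInstance) ((Ideal.span_singleton_le_iff_mem _).2 hfB)
      haveI : IsLocalRing (A ⧸ Ideal.span {f}) := isLocalRing_quotient hfne
      haveI : IsLocalRing (B ⧸ (Ideal.span {f}).map (algebraMap A B)) := isLocalRing_quotient hfne'
      haveI : IsLocalRing (B ⧸ Ideal.span {algebraMap A B f}) := isLocalRing_quotient (hspan ▸ hfne')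
      haveI : Module.Flat (A ⧸ Ideal.span {f}) (B ⧸ (Ideal.span {f}).map (algebraMap A B)) :=
        CatLib.flat_quotient _
      haveI : IsLocalHom (algebraMap (A ⧸ Ideal.span {f}) (B ⧸ (Ideal.span {f}).map (algebraMap A B))) := ⟨fun x hx => by
        obtain ⟨a, rfl⟩ := Ideal.Quotient.mk_surjective x
        by_contra han
        refine not_isUnit_mk hfne' (fun hu => ?_) hx
        exact han ((IsUnit.of_map (algebraMap A B) a hu).map _)⟩
      have hq : HasSeqIn (maximalIdeal (B ⧸ (Ideal.span {f}).map (algebraMap A B)))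
          (B ⧸ (Ideal.span {f}).map (algebraMap A B)) n := by
        have h1 := (le_depth_iff _).2 (hasSeqIn_quot hfreg hfB hB)
        exact (le_depth_iff _).1 (CMFlatLib.le_depth_congr (Ideal.quotEquivOfEq hspan).symm h1)
      have hq' := ih (A ⧸ Ideal.span {f}) (B ⧸ (Ideal.span {f}).map (algebraMap A B)) (by
        refine le_of_eq_of_le (ringKrullDim_eq_of_ringEquiv ((Ideal.quotEquivOfEq ?_).trans
          (DoubleQuot.quotQuotEquivQuotOfLE (Ideal.map_mono ((Ideal.span_singleton_le_iff_mem _).2 hfm))))) hF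
        rw [maximalIdeal_quotient, Ideal.map_map, Ideal.map_map]
        rfl) hq
      obtain ⟨rs, hl, hm, hr⟩ := hq'
      rw [maximalIdeal_quotient] at hm
      obtain ⟨ls, hls, rfl⟩ := CMFlatLib.exists_map_list _ Ideal.Quotient.mk_surjective (maximalIdeal A) rs hm
      exact ⟨f :: ls, by simpa using hl, List.forall_mem_cons.2 ⟨hfm, hls⟩,
        CMFlatLib.isWeaklyRegular_cons_ring.2 ⟨hf, hr⟩⟩

variable {A : Type u} [CommRing A] [IsLocalRing A] [IsNoetherianRing A]
  {B : Type u} [CommRing B] [IsLocalRing B] [IsNoetherianRing B]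
  [Algebra A B] [IsLocalHom (algebraMap A B)] [Module.Flat A B]

theorem depth_le_of_flat (hF : ringKrullDim (Fib A B) ≤ 0) : LocCoh.depth B B ≤ LocCoh.depth A A :=
  le_of_forall_le fun c hc => by
    induction c using ENat.recTopCoe with
    | top =>
      refine top_le_iff.2 (ENat.eq_top_iff_forall_ge.2 fun n => ?_)
      exact (le_depth_iff n).2 (hasSeqIn_of_flat n A B hF ((le_depth_iff n).1 (le_trans le_top hc)))
    | coe n => exact (le_depth_iff n).2 (hasSeqIn_of_flat n A B hF ((le_depth_iff n).1 hc))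

/-- The pointwise condition `(S_k)`. -/
def SkPt (k : ℕ) (R : Type u) [CommRing R] [IsLocalRing R] : Prop :=
  min (k : WithBot ℕ∞) (ringKrullDim R) ≤ ((LocCoh.depth R R : ℕ∞) : WithBot ℕ∞)

/-- Descent of `(S_k)` along a flat local homomorphism with fibre of dimension zero. -/
theorem skPt_descend (k : ℕ) (hF : ringKrullDim (Fib A B) ≤ 0) (h : SkPt k B) : SkPt k A := by
  refine le_trans ?_ (le_trans h (WithBot.coe_le_coe.2 (depth_le_of_flat hF)))
  refine min_le_min le_rfl ?_
  rw [CatLib.ringKrullDim_eq_add_of_flat (A := A) (B := B)]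
  haveI : Nontrivial (B ⧸ (maximalIdeal A).map (algebraMap A B)) :=
    Ideal.Quotient.nontrivial_iff.2 (map_maximalIdeal_ne_top A B)
  obtain ⟨a, ha⟩ := exists_ringKrullDim_eq (R := A)
  obtain ⟨c, hc⟩ := exists_ringKrullDim_eq (R := B ⧸ (maximalIdeal A).map (algebraMap A B))
  rw [ha, hc]
  exact_mod_cast Nat.le_add_right a c

/-- Ascent of `(S_k)` along a flat local homomorphism with Cohen–Macaulay fibre. -/
theorem skPt_ascend (k : ℕ) [IsLocalRing (Fib A B)] (hF : IsCM (Fib A B)) (h : SkPt k A) : SkPt k B := by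
  obtain ⟨ls, hls, hd⟩ := hF
  have hb : ((ls.length : ℕ) : ℕ∞) ≤ LocCoh.depth (Fib A B) (Fib A B) :=
    (le_depth_iff _).2 ⟨ls, rfl, mem_maximalIdeal_of_isRegular hls, hls.toIsWeaklyRegular⟩
  obtain ⟨a, ha⟩ := exists_ringKrullDim_eq (R := A)
  have hmin : ((min k a : ℕ) : ℕ∞) ≤ LocCoh.depth A A := by
    rw [SkPt, ha] at h
    refine WithBot.coe_le_coe.1 (le_trans (le_of_eq ?_) h)
    rcases le_total k a with h' | h'
    · rw [min_eq_left h', min_eq_left (by exact_mod_cast h')]; rfl
    · rw [min_eq_right h', min_eq_right (by exact_mod_cast h')]; rfl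
  have hadd := DepthLib.add_le_depth A B hmin hb
  show min (k : WithBot ℕ∞) (ringKrullDim B) ≤ _
  rw [CatLib.ringKrullDim_eq_add_of_flat (A := A) (B := B), ha,
    show ringKrullDim (B ⧸ (maximalIdeal A).map (algebraMap A B)) = _ from hd]
  refine le_trans ?_ (WithBot.coe_le_coe.2 hadd)
  rw [← Nat.cast_add]
  rcases le_total k (a + ls.length) with h' | h'
  · rw [min_eq_left (by exact_mod_cast h')]
    exact_mod_cast (show k ≤ min k a + ls.length by omega)
  · rw [min_eq_right (by exact_mod_cast h')]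
    exact_mod_cast (show a + ls.length ≤ min k a + ls.length by omega)

end SyntCMLib
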